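import Mathlib.RingTheory.MvPolynomial.WeightedHomogeneous
import Mathlib.Algebra.MvPolynomial.Rename
import Mathlib.Algebra.Polynomial.Derivative
import Mathlib.Tactic.LinearCombination
import Mathlib.Algebra.Polynomial.AlgebraMap
import Mathlib.Data.Fin.VecNotation
import Mathlib.Algebra.BigOperators.Fin

/-!
# Bidegree (3,3) forms
-/

set_option autoImplicit false

universe u

open MvPolynomial Finset

namespace Groth.Agent.SpinPoly

variable {k : Type u} [Field k]

/-- The form with the given coefficient table. -/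
noncomputable def form (c : Fin 4 → Fin 4 → k) : MvPolynomial (Fin 4) k :=
  ∑ i : Fin 4, ∑ j : Fin 4, C (c i j) * (X 0 ^ (i : ℕ) * X 1 ^ (3 - (i : ℕ)) * (X 2 ^ (j : ℕ) * X 3 ^ (3 - (j : ℕ))))

/-- The exponent of a monomial of bidegree (3,3). -/
noncomputable def expo (i j : Fin 4) : Fin 4 →₀ ℕ :=
  Finsupp.single 0 (i : ℕ) + Finsupp.single 1 (3 - (i : ℕ)) +
    (Finsupp.single 2 (j : ℕ) + Finsupp.single 3 (3 - (j : ℕ)))

theorem mono_eq (i j : Fin 4) :
    (X 0 ^ (i : ℕ) * X 1 ^ (3 - (i : ℕ)) * (X 2 ^ (j : ℕ) * X 3 ^ (3 - (j : ℕ))) : MvPolynomial (Fin 4) k) =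
      monomial (expo i j) 1 := by
  simp [expo, X_pow_eq_monomial, monomial_mul]

theorem expo_injective {i i' j j' : Fin 4} (h : expo i j = expo i' j') : i = i' ∧ j = j' := by
  have h0 := DFunLike.congr_fun h 0
  have h2 := DFunLike.congr_fun h 2
  simp [expo] at h0 h2
  exact ⟨Fin.ext h0, Fin.ext h2⟩

theorem coeff_form (c : Fin 4 → Fin 4 → k) (i j : Fin 4) : coeff (expo i j) (form c) = c i j := by
  classical
  simp only [form, mono_eq, C_mul_monomial, mul_one, coeff_sum, coeff_monomial]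
  rw [Finset.sum_eq_single i, Finset.sum_eq_single j]
  · simp
  · intro b _ hb; rw [if_neg]; exact fun h => hb (expo_injective h).2
  · simp
  · intro b _ hb
    exact Finset.sum_eq_zero fun x _ => by rw [if_neg]; exact fun h => hb (expo_injective h).1
  · simp

theorem eq_form (f : MvPolynomial (Fin 4) k)
    (h1 : f.IsWeightedHomogeneous (![1, 1, 0, 0] : Fin 4 → ℕ) 3)
    (h2 : f.IsWeightedHomogeneous (![0, 0, 1, 1] : Fin 4 → ℕ) 3) :
    f = form fun i j => coeff (expo i j) f := by
  classical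
  refine MvPolynomial.ext _ _ fun d => ?_
  by_cases hd : ∃ i j, d = expo i j
  · obtain ⟨i, j, rfl⟩ := hd
    rw [coeff_form]
  · have hr : coeff d (form fun i j => coeff (expo i j) f) = 0 := by
      simp only [form, mono_eq, C_mul_monomial, mul_one, coeff_sum, coeff_monomial]
      exact Finset.sum_eq_zero fun i _ => Finset.sum_eq_zero fun j _ =>
        if_neg fun h => hd ⟨i, j, h.symm⟩
    rw [hr]
    by_contra hne
    have e1 := h1 hne
    have e2 := h2 hne
    simp [Finsupp.weight_apply, Finsupp.sum_fintype, Fin.sum_univ_four] at e1 e2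
    refine hd ⟨⟨d 0, by omega⟩, ⟨d 2, by omega⟩, Finsupp.ext fun a => ?_⟩
    fin_cases a <;> simp [expo] <;> omega

theorem expo_swap (i j : Fin 4) :
    Finsupp.mapDomain (![2, 3, 0, 1] : Fin 4 → Fin 4) (expo i j) = expo j i := by
  simp only [expo, Finsupp.mapDomain_add, Finsupp.mapDomain_single, Matrix.cons_val_zero, Matrix.cons_val_one, Matrix.cons_val]
  abel

theorem coeff_swap (f : MvPolynomial (Fin 4) k) (i j : Fin 4) :
    coeff (expo j i) (rename (![2, 3, 0, 1] : Fin 4 → Fin 4) f) = coeff (expo i j) f := by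
  rw [← expo_swap, coeff_rename_mapDomain]
  decide

theorem restrict_conditions (c : Fin 4 → Fin 4 → k)
    (h : (X 0 * X 1 * (X 0 - X 1)) ^ 2 ∣ rename (![0, 1, 0, 1] : Fin 4 → Fin 2) (form c)) :
    c 0 0 = 0 ∧ c 0 1 + c 1 0 = 0 ∧ c 3 3 = 0 ∧ c 2 3 + c 3 2 = 0 ∧
      (∑ i : Fin 4, ∑ j : Fin 4, c i j) = 0 ∧
      (∑ i : Fin 4, ∑ j : Fin 4, (((i : ℕ) + (j : ℕ) : ℕ) : k) * c i j) = 0 := by
  obtain ⟨q, hq⟩ := h
  have e1 := congrArg (MvPolynomial.aeval ![(Polynomial.X : Polynomial k), 1]) hq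
  have e2 := congrArg (MvPolynomial.aeval ![(1 : Polynomial k), Polynomial.X]) hq
  simp [form, Fin.sum_univ_four] at e1 e2
  have c1 := congrArg (fun p => Polynomial.coeff p 0) e1
  have c2 := congrArg (fun p => Polynomial.coeff (Polynomial.derivative p) 0) e1
  have c3 := congrArg (fun p => Polynomial.coeff p 0) e2
  have c4 := congrArg (fun p => Polynomial.coeff (Polynomial.derivative p) 0) e2
  have c5 := congrArg (Polynomial.eval 1) e1
  have c6 := congrArg (fun p => Polynomial.eval 1 (Polynomial.derivative p)) e1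
  simp [Polynomial.coeff_zero_eq_eval_zero, Polynomial.derivative_pow, Polynomial.derivative_mul] at c1 c2 c3 c4 c5 c6
  simp only [Fin.sum_univ_four]
  simp
  refine ⟨?_, ?_, ?_, ?_, ?_, ?_⟩
  · linear_combination c1
  · linear_combination c2
  · linear_combination c3
  · linear_combination c4
  · linear_combination c5
  · linear_combination c6

end Groth.Agent.SpinPoly
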